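import Groth.Agent.S2082
import Groth.Agent.LC.GorHull
import Groth.Agent.LC.GorRows
import Groth.Agent.LC.IndependentLength
import Groth.Agent.HSLib.Samuel
import Mathlib.RingTheory.RingHom.Flat
import Mathlib.RingTheory.RegularLocalRing.Defs
import Mathlib.RingTheory.Flat.EquationalCriterion
import Mathlib.Analysis.Polynomial.Basic
import Mathlib.Algebra.CharP.Frobenius

/-!
# Kunz's theorem: regularity and flatness of Frobenius
-/

universe u

open IsLocalRing Filter Polynomial

namespace Groth.Agent.KunzLib

variable (p : ℕ) [Fact p.Prime]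

theorem charP_localization {R : Type u} [CommRing R] [CharP R p] (P : Ideal R) [P.IsPrime] :
    CharP (Localization.AtPrime P) p :=
  (CharP.charP_iff_prime_eq_zero (Fact.out : p.Prime)).2 (by
    rw [← map_natCast (algebraMap R (Localization.AtPrime P)), CharP.cast_eq_zero, map_zero])

variable (R : Type u) [CommRing R] [CharP R p]

/-- The Frobenius of a regular local ring is flat. -/
theorem flat_frobenius_of_regular [IsRegularLocalRing R] : (frobenius R p).Flat := by
  have hp : p.Prime := Fact.out
  letI : Algebra R R := (frobenius R p).toAlgebra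
  haveI : IsLocalHom (algebraMap R R) := ⟨fun a ha => (isUnit_pow_iff hp.ne_zero).1 ha⟩
  haveI := LC.gorenstein_of_isRegularLocalRing (R := R)
  haveI := LC.isCohenMacaulayLocalRing_of_gorenstein (R := R)
  refine S2082.result (R := R) (S := R) ?_
  have h0 : ringKrullDim (R ⧸ (maximalIdeal R).map (algebraMap R R)) = 0 := by
    have hle : (maximalIdeal R).map (algebraMap R R) ≤ maximalIdeal R :=
      Ideal.map_le_iff_le_comap.2 fun a ha => Ideal.pow_mem_of_mem _ ha p hp.pos
    haveI : Nontrivial (R ⧸ (maximalIdeal R).map (algebraMap R R)) :=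
      Ideal.Quotient.nontrivial_iff.2 fun h => (maximalIdeal.isMaximal R).ne_top (top_le_iff.1 (h.ge.trans hle))
    haveI : Ring.KrullDimLE 0 (R ⧸ (maximalIdeal R).map (algebraMap R R)) := Ring.krullDimLE_zero_iff.2 fun Q hQ => by
      have h1 : Q.comap (Ideal.Quotient.mk _) = maximalIdeal R :=
        le_antisymm (le_maximalIdeal (Ideal.IsPrime.ne_top inferInstance)) fun a ha =>
          Ideal.IsPrime.mem_of_pow_mem inferInstance p (Ideal.mem_comap.2 (by
            have h2 : a ^ p ∈ (maximalIdeal R).map (algebraMap R R) := Ideal.mem_map_of_mem (algebraMap R R) ha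
            rw [Ideal.Quotient.eq_zero_iff_mem.2 h2]
            exact Q.zero_mem))
      haveI : (Q.comap (Ideal.Quotient.mk ((maximalIdeal R).map (algebraMap R R)))).IsMaximal :=
        by rw [h1]; exact maximalIdeal.isMaximal R
      rw [← Ideal.map_comap_of_surjective _ Ideal.Quotient.mk_surjective Q]
      exact (Ideal.map_eq_top_or_isMaximal_of_surjective _ Ideal.Quotient.mk_surjective this).resolve_left fun h =>
        hQ.ne_top (by rw [← Ideal.map_comap_of_surjective _ Ideal.Quotient.mk_surjective Q, h])
    exact le_antisymm (Ring.krullDimLE_iff.1 inferInstance) ringKrullDim_nonneg_of_nontrivial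
  rw [h0, add_zero]

theorem flat_iterateFrobenius (h : (frobenius R p).Flat) : ∀ e : ℕ, (iterateFrobenius R p e).Flat
  | 0 => by
    rw [show iterateFrobenius R p 0 = RingHom.id R from RingHom.ext fun x => by simp]
    exact RingHom.Flat.id R
  | e + 1 => by
    rw [show iterateFrobenius R p (e + 1) = (frobenius R p).comp (iterateFrobenius R p e) from
      RingHom.ext fun x => by simp [iterateFrobenius_def, frobenius_def, ← pow_mul, pow_succ]]
    exact (flat_iterateFrobenius h e).comp h

variable {R}

omit [Fact p.Prime] [CharP R p] in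
theorem span_pow_le (x : List R) (q : ℕ) :
    Ideal.span {r | r ∈ x} ^ (x.length * q + 1) ≤ Ideal.span ((fun r => r ^ q) '' {r | r ∈ x}) := by
  induction x with
  | nil => simp
  | cons a x ih =>
    have h1 : ({r | r ∈ a :: x} : Set R) = insert a {r | r ∈ x} := by ext r; simp
    rw [h1, Set.image_insert_eq, Ideal.span_insert, Ideal.span_insert, List.length_cons,
      show (x.length + 1) * q + 1 = q + (x.length * q + 1) by ring]
    exact Ideal.sup_pow_add_le_pow_sup_pow.trans (sup_le_sup (Ideal.span_singleton_pow a q).le ih)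

/-- A local ring with flat Frobenius is regular. -/
theorem isRegularLocalRing_of_flat [IsLocalRing R] [IsNoetherianRing R] (hF : (frobenius R p).Flat) :
    IsRegularLocalRing R := by
  classical
  have hp : p.Prime := Fact.out
  refine IsRegularLocalRing.of_spanFinrank_maximalIdeal_le R ?_
  obtain ⟨s, hsc, hs⟩ := Submodule.FG.exists_span_finset_card_eq_spanFinrank
    (IsNoetherian.noetherian (maximalIdeal R))
  generalize hn : (maximalIdeal R).spanFinrank = n at hsc
  let x : Fin n → R := fun i => (s.equivFinOfCardEq hsc).symm i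
  have hrange : Set.range x = s := by
    ext r
    exact ⟨by rintro ⟨i, rfl⟩; exact ((s.equivFinOfCardEq hsc).symm i).2,
      fun hr => ⟨s.equivFinOfCardEq hsc ⟨r, hr⟩, by simp [x]⟩⟩
  have hx : Ideal.span (Set.range x) = maximalIdeal R := by rw [hrange]; exact hs
  -- minimality of the generators
  have hmin : ∀ c : Fin n → R, ∑ i, x i * c i = 0 → ∀ i, c i ∈ maximalIdeal R := by
    intro c hc i
    by_contra hci
    obtain ⟨u, hu⟩ : IsUnit (c i) := by
      by_contra h; exact hci ((mem_maximalIdeal _).2 h)
    let T : Set R := x '' {i}ᶜ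
    have hxi : x i ∈ Ideal.span T := by
      have h1 : x i * c i ∈ Ideal.span T := by
        rw [← Finset.add_sum_erase _ _ (Finset.mem_univ i)] at hc
        rw [eq_neg_of_add_eq_zero_left hc]
        exact neg_mem (Ideal.sum_mem _ fun j hj => Ideal.mul_mem_right _ _
          (Ideal.subset_span ⟨j, (Finset.mem_erase.1 hj).1, rfl⟩))
      have h2 := Ideal.mul_mem_right (↑u⁻¹ : R) _ h1
      rwa [← hu, mul_assoc, Units.mul_inv, mul_one] at h2
    have hT : Ideal.span T = maximalIdeal R := by
      refine le_antisymm (Ideal.span_mono (Set.image_subset_range _ _) |>.trans hx.le) ?_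
      rw [← hx, Ideal.span_le]
      rintro _ ⟨j, rfl⟩
      rcases eq_or_ne j i with rfl | hj
      · exact hxi
      · exact Ideal.subset_span ⟨j, hj, rfl⟩
    have h3 := Submodule.spanFinrank_span_le_ncard_of_finite (R := R) (Set.toFinite T)
    rw [show Submodule.span R T = maximalIdeal R from hT, hn] at h3
    have h4 : T.ncard ≤ ({i}ᶜ : Set (Fin n)).ncard := Set.ncard_image_le (Set.toFinite _)
    have h5 : ({i}ᶜ : Set (Fin n)).ncard = n - 1 := by
      rw [Set.ncard_compl, Set.ncard_singleton, Nat.card_fin]
    have := i.isLt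
    omega
  -- powers of the generators are independent
  have hind : ∀ e : ℕ, Dual2.Independent fun i => x i ^ p ^ e := by
    intro e a ha i
    letI : Algebra R R := (iterateFrobenius R p e).toAlgebra
    have hfl : @Module.Flat R R _ _ (iterateFrobenius R p e).toAlgebra.toModule := flat_iterateFrobenius p R hF e
    obtain ⟨l, c, y, hy, hc⟩ := @Module.Flat.isTrivialRelation_of_sum_smul_eq_zero R R _ _ (iterateFrobenius R p e).toAlgebra.toModule hfl (Fin n) _ x a (by
      rw [← ha]
      exact Finset.sum_congr rfl fun j _ => (mul_comm _ _).trans (congrArg (a j * ·) (iterateFrobenius_def ..)))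
    rw [hy i]
    refine Ideal.sum_mem _ fun j _ => ?_
    have h1 : c i j ∈ maximalIdeal R := hmin (fun i => c i j) (hc j) i
    rw [← hx] at h1
    have h2 := Ideal.mem_map_of_mem (iterateFrobenius R p e) h1
    rw [Ideal.map_span, ← Set.range_comp] at h2
    have h3 : (Set.range fun i => x i ^ p ^ e) = Set.range (iterateFrobenius R p e ∘ x) :=
      congrArg Set.range (funext fun i => (iterateFrobenius_def ..).symm)
    rw [h3]
    exact Ideal.mul_mem_right _ _ h2
  -- compare with the Hilbert–Samuel polynomial
  obtain ⟨P, hP⟩ := HSLib.exists_poly_jacobson (A := R) R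
  have hdeg := HSLib.supportDim_eq R P hP
  rw [Module.supportDim_self_eq_ringKrullDim] at hdeg
  rw [← hdeg]
  rw [IsLocalRing.ringJacobson_eq_maximalIdeal] at hP
  norm_cast
  by_contra hlt
  push Not at hlt
  let Q : ℚ[X] := P.comp (C (n : ℚ) * X + 1)
  have hQ : Q.natDegree ≤ P.natDegree := by
    refine natDegree_comp_le.trans ?_
    have : (C (n : ℚ) * X + 1 : ℚ[X]).natDegree ≤ 1 := natDegree_linear_le (a := (n : ℚ)) (b := 1) |>.trans' (by simp)
    calc P.natDegree * (C (n : ℚ) * X + 1 : ℚ[X]).natDegree ≤ P.natDegree * 1 := Nat.mul_le_mul_left _ this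
      _ = _ := mul_one _
  have hn0 : 0 < n := by omega
  have hle : ∀ᶠ e : ℕ in atTop, ((p ^ e : ℕ) : ℚ) ^ n ≤ Q.eval ((p ^ e : ℕ) : ℚ) := by
    have ht : Tendsto (fun e : ℕ => n * p ^ e + 1) atTop atTop :=
      tendsto_atTop_mono (fun e => (Nat.le_mul_of_pos_left _ hn0).trans (Nat.le_succ _))
        (tendsto_pow_atTop_atTop_of_one_lt hp.one_lt)
    filter_upwards [ht.eventually hP] with e he
    simp only [Q, eval_comp, eval_add, eval_mul, eval_C, eval_X, eval_one]
    rw [show (n : ℚ) * ((p ^ e : ℕ) : ℚ) + 1 = ((n * p ^ e + 1 : ℕ) : ℚ) by push_cast; rfl, ← he,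
      ← Nat.cast_pow, Nat.cast_le]
    have hlen := LC.Indep.length_powers x hx (fun _ => p ^ e) (fun _ => pow_pos hp.pos e) (hind e)
    rw [Finset.prod_const, Finset.card_univ, Fintype.card_fin] at hlen
    have hsub : maximalIdeal R ^ (n * p ^ e + 1) • (⊤ : Submodule R R) ≤ Ideal.span (Set.range fun i => x i ^ p ^ e) := by
      rw [Ideal.smul_eq_mul, Ideal.mul_top]
      have := span_pow_le (List.ofFn x) (p ^ e)
      rw [List.length_ofFn, show ({r | r ∈ List.ofFn x} : Set R) = Set.range x by ext r; simp [List.mem_ofFn],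
        hx, ← Set.range_comp] at this
      exact this
    have h1 := Module.length_le_of_surjective (Submodule.factor hsub) (Submodule.factor_surjective hsub)
    rw [hlen] at h1
    have h2 := ENat.toNat_le_toNat h1 (HSLib.length_quot_ne_top (I := maximalIdeal R)
      (fun q _ hq => (maximalIdeal.isMaximal R).eq_of_le q.2.ne_top hq ▸ maximalIdeal.isMaximal R) le_rfl)
    rwa [← Nat.cast_pow, ENat.toNat_natCast] at h2
  have hdiv : Q.degree < (X ^ n : ℚ[X]).degree := by
    rw [degree_X_pow]
    exact (degree_le_natDegree).trans_lt (by exact_mod_cast hQ.trans_lt hlt)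
  have h0 := ((Polynomial.div_tendsto_atTop_zero_of_degree_lt Q _ hdiv).comp
    ((tendsto_natCast_atTop_atTop (R := ℚ)).comp (tendsto_pow_atTop_atTop_of_one_lt hp.one_lt))).eventually
      (gt_mem_nhds (show (0 : ℚ) < 1 from one_pos))
  obtain ⟨e, he1, he2⟩ := (hle.and h0).exists
  simp only [Function.comp_apply, eval_pow, eval_X] at he2
  rw [div_lt_one (pow_pos (by exact_mod_cast pow_pos hp.pos e) n)] at he2
  exact absurd he2 (not_lt.2 he1)

/-- Kunz's theorem. -/
theorem kunz (R : Type u) [CommRing R] [IsNoetherianRing R] [CharP R p] :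
    IsRegularRing R ↔ (frobenius R p).Flat := by
  have hc : ∀ (P : Ideal R) [P.IsPrime], P = P.comap (frobenius R p) := fun P _ => by
    ext a
    rw [Ideal.mem_comap, frobenius_def]
    exact ⟨fun h => Ideal.pow_mem_of_mem _ h p (Fact.out : p.Prime).pos, fun h => Ideal.IsPrime.mem_of_pow_mem inferInstance p h⟩
  have key : ∀ (P : Ideal R) [P.IsPrime], haveI := charP_localization p P
      Localization.localRingHom P P (frobenius R p) (hc P) = frobenius (Localization.AtPrime P) p := by
    intro P _
    haveI := charP_localization p P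
    refine IsLocalization.ringHom_ext P.primeCompl (RingHom.ext fun a => ?_)
    simp [Localization.localRingHom_to_map, frobenius_def]
  refine ⟨fun h => RingHom.Flat.ofLocalizationPrime _ fun P _ => ?_, fun h => { isRegularLocalRing_localization := fun P _ => ?_ }⟩
  · haveI := charP_localization p P
    haveI := h.isRegularLocalRing_localization P
    suffices H : ∀ (Q : Ideal R) [Q.IsPrime] (hQ : Q = P.comap (frobenius R p)), Q = P →
        (Localization.localRingHom Q P (frobenius R p) hQ).Flat from H _ rfl (hc P).symm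
    intro Q _ hQ e
    subst e
    rw [key]
    exact flat_frobenius_of_regular p _
  · haveI := charP_localization p P
    refine isRegularLocalRing_of_flat p ?_
    rw [← key]
    exact h.localRingHom P P (hc P)

end Groth.Agent.KunzLib
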