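import Groth.Agent.KunzLib.Basic
import Groth.Agent.LC.LiaisonLocal
import Groth.Agent.LC.InjNoeth
import Groth.Agent.LC.Matlis
import Groth.Agent.TorsionlessLib.SelfInjective
import Groth.Agent.CplFib6.QuotReg
import Mathlib.Algebra.Category.ModuleCat.ChangeOfRings
import Mathlib.LinearAlgebra.Basis.VectorSpace
import Mathlib.LinearAlgebra.TensorProduct.Vanishing

/-!
# Torsion modules over a regular local ring which are stable under Frobenius
-/

universe u

set_option backward.isDefEq.respectTransparency false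
set_option backward.isDefEq.respectTransparency.types false
set_option linter.style.haveILetI false

open IsLocalRing TensorProduct CategoryTheory

namespace Groth.Agent.KunzLib

variable (p : ℕ) [Fact p.Prime] (R : Type u) [CommRing R] [CharP R p]

/-- The ring, as an algebra over itself by Frobenius. -/
def Fr (_p : ℕ) (R : Type u) : Type u := R

instance : CommRing (Fr p R) := inferInstanceAs (CommRing R)
noncomputable instance : Algebra R (Fr p R) := (frobenius R p).toAlgebra

/-- An element of the ring in the twisted algebra. -/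
def toFr : R →+* Fr p R := RingHom.id R

variable {p R}

/-- A semilinear map inducing the isomorphism with the pullback. -/
structure Stable (M : Type u) [AddCommGroup M] [Module R M] where
  θ : Fr p R ⊗[R] M ≃+ M
  smul : ∀ (r : R) (t : Fr p R ⊗[R] M), θ (toFr p R r • t) = r • θ t

theorem exists_stable {M : Type u} [AddCommGroup M] [Module R M]
    (h : Nonempty ((ModuleCat.extendScalars (frobenius R p)).obj (ModuleCat.of R M) ≅ ModuleCat.of R M)) :
    Nonempty (Stable (p := p) (R := R) M) := by
  obtain ⟨i⟩ := h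
  exact ⟨⟨i.toLinearEquiv.toAddEquiv, fun r t => i.toLinearEquiv.map_smul r t⟩⟩

variable {M : Type u} [AddCommGroup M] [Module R M] (Θ : Stable (p := p) (R := R) M)

/-- The semilinear endomorphism. -/
noncomputable def Stable.ψ (m : M) : M := Θ.θ ((1 : Fr p R) ⊗ₜ m)

theorem Stable.ψ_zero : Θ.ψ 0 = 0 := by rw [Stable.ψ, tmul_zero, map_zero]
theorem Stable.ψ_add (a b : M) : Θ.ψ (a + b) = Θ.ψ a + Θ.ψ b := by rw [Stable.ψ, tmul_add, map_add]; rfl

theorem Stable.θ_tmul (s : R) (m : M) : Θ.θ (toFr p R s ⊗ₜ m) = s • Θ.ψ m := by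
  rw [Stable.ψ, ← Θ.smul, TensorProduct.smul_tmul', smul_eq_mul, mul_one]

theorem Stable.ψ_smul (r : R) (m : M) : Θ.ψ (r • m) = r ^ p • Θ.ψ m := by
  rw [← Θ.θ_tmul, Stable.ψ, ← TensorProduct.smul_tmul, Algebra.smul_def, mul_one]
  rfl

variable (hF : (frobenius R p).Flat)
include hF

theorem flat_fr : Module.Flat R (Fr p R) := hF

/-- Torsion by the Frobenius power of a finitely generated ideal. -/
theorem Stable.mem_span_ψ {n : ℕ} (x : Fin n → R) (y : M) (hy : ∀ i, x i ^ p • y = 0) :
    y ∈ Submodule.span R (Θ.ψ '' {z | ∀ i, x i • z = 0}) := by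
  haveI := flat_fr hF
  let f : M →ₗ[R] (Fin n → M) := LinearMap.pi fun i => x i • LinearMap.id
  let t := Θ.θ.symm y
  have hc : ∀ (s : Fr p R ⊗[R] M) (i : Fin n),
      Θ.θ ((LinearMap.proj i : (Fin n → M) →ₗ[R] M).lTensor (Fr p R) (f.lTensor (Fr p R) s)) = x i ^ p • Θ.θ s := fun s i => by
    induction s with
    | zero => simp
    | tmul a m =>
      rw [LinearMap.lTensor_tmul, LinearMap.lTensor_tmul, show (LinearMap.proj i : (Fin n → M) →ₗ[R] M) (f m) = x i • m from rfl,
        show a = toFr p R (show R from a) from rfl, Θ.θ_tmul, Θ.ψ_smul, Θ.θ_tmul, smul_comm]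
    | add a b ha hb => simp only [map_add, ha, hb, smul_add]
  have hft : f.lTensor (Fr p R) t = 0 := by
    apply (TensorProduct.piRight R R (Fr p R) fun _ : Fin n => M).injective
    rw [map_zero]
    funext i
    have h1 := hc t i
    rw [show Θ.θ t = y from Θ.θ.apply_symm_apply y, hy i, ← map_zero Θ.θ] at h1
    have h2 : ∀ s : Fr p R ⊗[R] (Fin n → M), TensorProduct.piRight R R (Fr p R) (fun _ : Fin n => M) s i =
        (LinearMap.proj i : (Fin n → M) →ₗ[R] M).lTensor (Fr p R) s := fun s => by
      induction s with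
      | zero => simp
      | tmul a m => simp
      | add a b ha hb => simp only [map_add, Pi.add_apply, ha, hb]
    rw [h2]
    exact Θ.θ.injective h1
  obtain ⟨t', ht'⟩ := (Module.Flat.lTensor_exact (Fr p R) f.exact_subtype_ker_map t).1 hft
  rw [← Θ.θ.apply_symm_apply y, show Θ.θ.symm y = t from rfl, ← ht']
  clear ht'
  induction t' with
  | zero => simp
  | tmul a z =>
    rw [LinearMap.lTensor_tmul, show a = toFr p R (show R from a) from rfl, Θ.θ_tmul]
    exact Submodule.smul_mem _ _ (Submodule.subset_span ⟨z.1, fun i => congrFun (LinearMap.mem_ker.1 z.2) i, rfl⟩)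
  | add a b ha hb => simp only [map_add]; exact add_mem ha hb

/-- Relations among images under the semilinear map. -/
theorem Stable.rel_ψ {ι : Type*} [Fintype ι] (v : ι → M) (a : Ideal R)
    (ha : ∀ c : ι → R, ∑ i, c i • v i = 0 → ∀ i, c i ∈ a)
    (d : ι → R) (hd : ∑ i, d i • Θ.ψ (v i) = 0) : ∀ i, d i ∈ a.map (frobenius R p) := by
  haveI := flat_fr hF
  have h0 : ∑ i, v i ⊗ₜ[R] toFr p R (d i) = 0 := by
    apply (TensorProduct.comm R M (Fr p R)).injective
    apply Θ.θ.injective
    rw [map_zero, map_zero, map_sum, map_sum, ← hd]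
    exact Finset.sum_congr rfl fun i _ => by rw [TensorProduct.comm_tmul, Θ.θ_tmul]
  obtain ⟨k, c, z, hz, hc⟩ := TensorProduct.vanishesTrivially_of_sum_tmul_eq_zero_of_rTensor_injective R
    (Module.Flat.rTensor_preserves_injective_linearMap _ (Submodule.subtype_injective _)) h0
  intro i
  have h1 : d i = ∑ j, frobenius R p (c i j) * (show R from z j) := by
    refine (hz i).trans (Finset.sum_congr rfl fun j _ => ?_)
    rw [Algebra.smul_def]
    rfl
  rw [h1]
  exact Ideal.sum_mem _ fun j _ => Ideal.mul_mem_right _ _ (Ideal.mem_map_of_mem _ (ha (fun i => c i j) (hc j) i))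

omit hF in
include Θ in
/-- A torsion module over a regular local ring stable under Frobenius is a sum of hulls of the residue field. -/
theorem exists_equiv_of_stable [IsRegularLocalRing R] {E : Type u} [AddCommGroup E] [Module R E]
    {e : ResidueField R →ₗ[R] E} (he : InjHull.IsInjectiveHull e)
    (hM : LocCoh.IsPowerTorsion (maximalIdeal R) M) : ∃ ι : Type u, Nonempty (M ≃ₗ[R] (ι →₀ E)) := by
  classical
  have hp : p.Prime := Fact.out
  have hF := flat_frobenius_of_regular p R
  obtain ⟨n, x, hx, hn⟩ : ∃ (n : ℕ) (x : Fin n → R), Ideal.span (Set.range x) = maximalIdeal R ∧ (n : WithBot ℕ∞) = ringKrullDim R := by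
    obtain ⟨s, hsc, hs⟩ := Submodule.FG.exists_span_finset_card_eq_spanFinrank (IsNoetherian.noetherian (maximalIdeal R))
    refine ⟨_, fun i => (s.equivFinOfCardEq hsc).symm i, ?_, IsRegularLocalRing.spanFinrank_maximalIdeal⟩
    rw [show (Set.range fun i => ((s.equivFinOfCardEq hsc).symm i : R)) = s from ?_]
    · exact hs
    · ext r
      exact ⟨by rintro ⟨i, rfl⟩; exact ((s.equivFinOfCardEq hsc).symm i).2,
        fun hr => ⟨s.equivFinOfCardEq hsc ⟨r, hr⟩, by simp⟩⟩
  let a : ℕ → Ideal R := fun k => Ideal.span (Set.range fun i => x i ^ p ^ k)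
  have ha0 : a 0 = maximalIdeal R := by simp only [a, pow_zero, pow_one]; exact hx
  have ha1 : ∀ k, a (k + 1) = (a k).map (frobenius R p) := fun k => by
    simp only [a, Ideal.map_span, ← Set.range_comp]
    congr 1
    ext r
    simp [pow_succ, pow_mul, frobenius_def]
  have hale : ∀ k, a k ≤ maximalIdeal R := fun k => Ideal.span_le.2 (by
    rintro _ ⟨i, rfl⟩
    exact Ideal.pow_mem_of_mem _ (hx ▸ Ideal.subset_span ⟨i, rfl⟩) _ (pow_pos hp.pos k))
  have hkill : ∀ (N : Type u) [AddCommGroup N] [Module R N] (k : ℕ) (y : N),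
      (∀ i, x i ^ p ^ k • y = 0) → ∀ r ∈ a k, r • y = 0 := fun N _ _ k y hy r hr => by
    induction hr using Submodule.span_induction with
    | mem r hr => obtain ⟨i, rfl⟩ := hr; exact hy i
    | zero => exact zero_smul _ _
    | add r s _ _ h1 h2 => rw [add_smul, h1, h2, add_zero]
    | smul t r _ h1 => rw [smul_eq_mul, mul_smul, h1, smul_zero]
  -- the socle
  let Soc : Submodule R M := Submodule.torsionBySet R M (maximalIdeal R : Set R)
  letI : Module (ResidueField R) Soc :=
    Module.IsTorsionBySet.module (I := maximalIdeal R) (Submodule.torsionBySet_isTorsionBySet (maximalIdeal R : Set R))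
  let b := Module.Basis.ofVectorSpace (ResidueField R) Soc
  let J := Module.Basis.ofVectorSpaceIndex (ResidueField R) Soc
  let v : ℕ → J → M := fun k j => Θ.ψ^[k] (b j).1
  have hv1 : ∀ k j, v (k + 1) j = Θ.ψ (v k j) := fun k j => Function.iterate_succ_apply' _ _ _
  have hvkill : ∀ k j i, x i ^ p ^ k • v k j = 0 := fun k => by
    induction k with
    | zero =>
      intro j i
      rw [pow_zero, pow_one]
      exact (Submodule.mem_torsionBySet_iff _ _).1 (b j).2 ⟨x i, hx ▸ Ideal.subset_span ⟨i, rfl⟩⟩
    | succ k ih => intro j i; rw [hv1, pow_succ, pow_mul, ← Θ.ψ_smul, ih, Θ.ψ_zero]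
  have hgen : ∀ k (y : M), (∀ i, x i ^ p ^ k • y = 0) → y ∈ Submodule.span R (Set.range (v k)) := fun k => by
    induction k with
    | zero =>
      intro y hy
      have hy' : y ∈ Soc := (Submodule.mem_torsionBySet_iff _ _).2 fun r => hkill M 0 y hy r.1 (ha0.ge r.2)
      have h2 : (⟨y, hy'⟩ : Soc) ∈ Submodule.span (ResidueField R) (Set.range b) := b.mem_span _
      have h3 : ∀ z : Soc, z ∈ Submodule.span (ResidueField R) (Set.range b) → z.1 ∈ Submodule.span R (Set.range (v 0)) := by
        intro z hz
        induction hz using Submodule.span_induction with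
        | mem z hz => obtain ⟨j, rfl⟩ := hz; exact Submodule.subset_span ⟨j, rfl⟩
        | zero => exact zero_mem _
        | add z w _ _ h1 h2 => exact add_mem h1 h2
        | smul c z _ h1 =>
          obtain ⟨r, rfl⟩ := residue_surjective c
          exact Submodule.smul_mem _ r h1
      exact h3 _ h2
    | succ k ih =>
      intro y hy
      have h1 := Θ.mem_span_ψ hF (fun i => x i ^ p ^ k) y fun i => by rw [← pow_mul, ← pow_succ]; exact hy i
      refine Submodule.span_le.2 ?_ h1
      rintro _ ⟨z, hz, rfl⟩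
      have h2 := ih z hz
      clear hz
      induction h2 using Submodule.span_induction with
      | mem z hz => obtain ⟨j, rfl⟩ := hz; exact Submodule.subset_span ⟨j, hv1 k j⟩
      | zero => rw [Θ.ψ_zero]; exact zero_mem _
      | add z w _ _ h1 h2 => rw [Θ.ψ_add]; exact add_mem h1 h2
      | smul c z _ h1 => rw [Θ.ψ_smul]; exact Submodule.smul_mem _ _ h1
  have hfree : ∀ k (S : Finset J) (d : S → R), ∑ j, d j • v k j = 0 → ∀ j, d j ∈ a k := fun k => by
    induction k with
    | zero =>
      intro S d hd j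
      rw [ha0]
      have h1 : ∑ j : S, residue R (d j) • b j.1 = 0 := Subtype.ext (by
        rw [Submodule.coe_sum]
        exact hd)
      have h2 := Fintype.linearIndependent_iff.1 (b.linearIndependent.comp (Subtype.val : S → J) Subtype.val_injective) _ h1 j
      exact (residue_eq_zero_iff _).1 h2
    | succ k ih =>
      intro S d hd
      rw [ha1]
      exact Θ.rel_ψ hF (fun j : S => v k j) (a k) (ih S) d (by simpa only [hv1] using hd)
  -- the map to a sum of hulls
  let g : Soc →ₗ[R] (J →₀ E) :=
    { toFun := fun z => (b.repr z).mapRange e (map_zero e)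
      map_add' := fun z w => by ext j; simp
      map_smul' := fun r z => by
        have h1 : r • z = (residue R r) • z := rfl
        ext j
        rw [h1, map_smul]
        simp only [Finsupp.mapRange_apply, Finsupp.smul_apply, RingHom.id_apply]
        rw [show residue R r • b.repr z j = r • b.repr z j from rfl, map_smul] }
  have hg : Function.Injective g := fun z w h => b.repr.injective (Finsupp.ext fun j => he.injective (Finsupp.ext_iff.1 h j))
  have hgr : ∀ y : J →₀ E, (∀ r ∈ maximalIdeal R, r • y = 0) → y ∈ LinearMap.range g := fun y hy => by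
    have h1 : ∀ j, y j ∈ LinearMap.range e := fun j => by
      rw [← LC.hull_socle he]
      exact (Submodule.mem_torsionBySet_iff _ _).2 fun r => Finsupp.ext_iff.1 (hy r r.2) j
    choose c hc using h1
    refine ⟨b.repr.symm (Finsupp.onFinset y.support c fun j hj => Finsupp.mem_support_iff.2 fun h0 => hj
      (he.injective (by rw [hc, h0, map_zero]))), Finsupp.ext fun j => ?_⟩
    show e (b.repr (b.repr.symm _) j) = y j
    rw [LinearEquiv.apply_symm_apply, Finsupp.onFinset_apply, hc]
  haveI := LC.injective_directSum (R := R) (fun _ : J => E) (fun _ => he.isInjective)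
  let q : (J →₀ E) ≃ₗ[R] DirectSum J fun _ => E := finsuppLequivDFinsupp R
  obtain ⟨φ', hφ⟩ := LC.exists_extension Soc.subtype Soc.injective_subtype (q.toLinearMap ∘ₗ g)
  let φ : M →ₗ[R] (J →₀ E) := q.symm.toLinearMap ∘ₗ φ'
  have hφg : ∀ z : Soc, φ z = g z := fun z => q.symm_apply_eq.2 (LinearMap.congr_fun hφ z)
  have hinj : Function.Injective φ := by
    rw [← LinearMap.ker_eq_bot, Submodule.eq_bot_iff]
    intro z hz
    obtain ⟨N, hN⟩ := hM z
    induction N generalizing z with
    | zero => rw [← one_smul R z]; exact hN 1 (by simp)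
    | succ N ih =>
      rw [LinearMap.mem_ker] at hz
      have hzs : z ∈ Soc := (Submodule.mem_torsionBySet_iff _ _).2 fun r => by
        refine ih (r.1 • z) (by rw [LinearMap.mem_ker, map_smul, hz, smul_zero]) fun c hc => ?_
        rw [smul_smul]
        exact hN _ (pow_succ (maximalIdeal R) N ▸ Ideal.mul_mem_mul hc r.2)
      exact congrArg Subtype.val (hg (((hφg ⟨z, hzs⟩).symm.trans hz).trans (map_zero g).symm))
  -- surjectivity on each torsion layer
  have hsurj : ∀ k (y : J →₀ E), (∀ r ∈ a k, r • y = 0) → ∃ z, φ z = y := by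
    intro k y hy
    let Q := R ⧸ a k
    haveI : Nontrivial Q := Ideal.Quotient.nontrivial_iff.2 fun h =>
      (maximalIdeal.isMaximal R).ne_top (top_le_iff.1 (h.ge.trans (hale k)))
    have hmin : ∀ P : Ideal R, P.IsPrime → a k ≤ P → P = maximalIdeal R := fun P hP hle =>
      le_antisymm (le_maximalIdeal hP.ne_top) (hx ▸ Ideal.span_le.2 (by
        rintro _ ⟨i, rfl⟩
        exact hP.mem_of_pow_mem _ (hle (Ideal.subset_span ⟨i, rfl⟩))))
    haveI : IsRegularRing R := CplFib6.isRegularRing_of_local R
    haveI : LocCoh.IsGorensteinRing Q := LC.Liaison.gorensteinRing_ci (fun i => x i ^ p ^ k) rfl (by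
      have h1 : ((a k).height : WithBot ℕ∞) = (n : ℕ∞) := by
        rw [show (a k).height = (maximalIdeal R).height from le_antisymm (Ideal.height_mono (hale k)) ?_,
          maximalIdeal_height_eq_ringKrullDim, ← hn]
        · rfl
        · rw [(a k).height_eq_inf_minimalPrimes]
          exact le_iInf₂ fun P hP => le_of_eq (congrArg Ideal.height (hmin P hP.1.1 hP.1.2)).symm
      exact_mod_cast h1)
    haveI : IsArtinianRing Q := by
      rw [isArtinianRing_iff_krullDimLE_zero, Ring.krullDimLE_zero_iff]
      intro P hP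
      have h1 := hmin _ (hP.comap (Ideal.Quotient.mk (a k))) fun r hr => by
        rw [Ideal.mem_comap, Ideal.Quotient.eq_zero_iff_mem.2 hr]; exact P.zero_mem
      have h2 : (P.comap (Ideal.Quotient.mk (a k))).IsMaximal := by rw [h1]; exact maximalIdeal.isMaximal R
      rw [← Ideal.map_comap_of_surjective _ Ideal.Quotient.mk_surjective P]
      exact (Ideal.map_eq_top_or_isMaximal_of_surjective _ Ideal.Quotient.mk_surjective h2).resolve_left fun h =>
        hP.ne_top (by rw [← Ideal.map_comap_of_surjective _ Ideal.Quotient.mk_surjective P, h])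
    let T : Submodule R (J →₀ E) := Submodule.torsionBySet R (J →₀ E) (a k : Set R)
    letI : Module Q T := Module.IsTorsionBySet.module (I := a k) (Submodule.torsionBySet_isTorsionBySet (a k : Set R))
    have hT : ∀ w, w ∈ T ↔ ∀ r ∈ a k, r • w = 0 := fun w =>
      ⟨fun h r hr => (Submodule.mem_torsionBySet_iff _ _).1 h ⟨r, hr⟩,
        fun h => (Submodule.mem_torsionBySet_iff _ _).2 fun r => h r r.2⟩
    let w : J → T := fun j => ⟨φ (v k j), (hT _).2 fun r hr => by
      rw [← map_smul, hkill M k _ (hvkill k j) r hr, map_zero]⟩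
    let Φ : (J →₀ Q) →ₗ[Q] T := Finsupp.linearCombination Q w
    have hΦ : ∀ c : J →₀ R, (Φ (c.mapRange (Ideal.Quotient.mk (a k)) (map_zero _))).1 = φ (Finsupp.linearCombination R (v k) c) := by
      intro c
      rw [Finsupp.linearCombination_apply, Finsupp.linearCombination_apply,
        Finsupp.sum_mapRange_index (fun j => zero_smul Q (w j)), map_finsuppSum, Finsupp.sum, Finsupp.sum, Submodule.coe_sum]
      exact Finset.sum_congr rfl fun j _ => (map_smul φ _ _).symm
    have hΦi : Function.Injective Φ := by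
      rw [← LinearMap.ker_eq_bot, Submodule.eq_bot_iff]
      intro c hc
      obtain ⟨c, rfl⟩ := Finsupp.mapRange_surjective _ (map_zero (Ideal.Quotient.mk (a k))) Ideal.Quotient.mk_surjective c
      have h1 := hΦ c
      rw [LinearMap.mem_ker.1 hc] at h1
      have h2 : Finsupp.linearCombination R (v k) c = 0 := hinj (by rw [← h1, map_zero]; rfl)
      refine Finsupp.ext fun j => ?_
      rw [Finsupp.mapRange_apply, Finsupp.zero_apply, Ideal.Quotient.eq_zero_iff_mem]
      by_cases hj : j ∈ c.support
      · refine hfree k c.support (fun j => c j.1) ?_ ⟨j, hj⟩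
        rw [← h2, Finsupp.linearCombination_apply, Finsupp.sum, ← Finset.sum_coe_sort c.support (fun j => c j • v k j)]
      · rw [Finsupp.notMem_support_iff.1 hj]; exact zero_mem _
    haveI := TorsionlessLib.injective_self (T := Q)
    haveI := LC.injective_directSum (R := Q) (fun _ : J => Q) (fun _ => inferInstance)
    let qQ : (J →₀ Q) ≃ₗ[Q] DirectSum J fun _ => Q := finsuppLequivDFinsupp Q
    obtain ⟨r', hr'⟩ := LC.exists_extension Φ hΦi qQ.toLinearMap
    let r : T →ₗ[Q] (J →₀ Q) := qQ.symm.toLinearMap ∘ₗ r'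
    have hrΦ : ∀ c, r (Φ c) = c := fun c => qQ.symm_apply_eq.2 (LinearMap.congr_fun hr' c)
    have hrange : ∀ c : J →₀ Q, ∃ z, φ z = (Φ c).1 := fun c => by
      obtain ⟨c, rfl⟩ := Finsupp.mapRange_surjective _ (map_zero (Ideal.Quotient.mk (a k))) Ideal.Quotient.mk_surjective c
      exact ⟨_, (hΦ c).symm⟩
    have hsocr : ∀ z : Soc, ∃ c : J →₀ Q, (Φ c).1 = φ z := fun z => by
      have h1 : ∀ i, x i ^ p ^ k • z.1 = 0 := fun i =>
        (Submodule.mem_torsionBySet_iff _ _).1 z.2 ⟨_, hale k (Ideal.subset_span ⟨i, rfl⟩)⟩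
      obtain ⟨c, hc⟩ := Finsupp.mem_span_range_iff_exists_finsupp.1 (hgen k z.1 h1)
      exact ⟨_, (hΦ c).trans (congrArg φ ((Finsupp.linearCombination_apply R c).trans hc))⟩
    have hker : ∀ (N : ℕ) (u : T), (∀ s ∈ maximalIdeal R ^ N, s • u.1 = 0) → r u = 0 → u = 0 := fun N => by
      induction N with
      | zero => intro u hu _; refine Subtype.ext ?_; rw [← one_smul R u.1]; exact hu 1 (by simp)
      | succ N ih =>
        intro u hu hru
        have hmu : ∀ s ∈ maximalIdeal R, s • u.1 = 0 := fun s hs => by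
          have h1 := ih ((Ideal.Quotient.mk (a k) s) • u) (fun t ht => by
            show t • (s • u.1) = 0
            rw [smul_smul]
            exact hu _ (pow_succ (maximalIdeal R) N ▸ Ideal.mul_mem_mul ht hs)) (by rw [map_smul, hru, smul_zero])
          exact congrArg Subtype.val h1
        obtain ⟨z, hz⟩ := hgr u.1 hmu
        obtain ⟨c, hc⟩ := hsocr z
        have h1 : Φ c = u := Subtype.ext (hc.trans ((hφg z).trans hz))
        rw [← h1, hrΦ] at hru
        rw [← h1, hru, map_zero]
    obtain ⟨N, hN⟩ : ∃ N, maximalIdeal R ^ N ≤ a k := by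
      have := span_pow_le (List.ofFn x) (p ^ k)
      rw [show ({r | r ∈ List.ofFn x} : Set R) = Set.range x by ext r; simp [List.mem_ofFn], hx, ← Set.range_comp] at this
      exact ⟨_, this⟩
    let u : T := ⟨y, (hT y).2 hy⟩
    have h0 := hker N (u - Φ (r u)) (fun s hs => (hT _).1 (u - Φ (r u)).2 s (hN hs)) (by rw [map_sub, hrΦ, sub_self])
    obtain ⟨z, hz⟩ := hrange (r u)
    exact ⟨z, hz.trans (congrArg Subtype.val (sub_eq_zero.1 h0).symm)⟩
  refine ⟨J, ⟨LinearEquiv.ofBijective φ ⟨hinj, fun y => ?_⟩⟩⟩
  have hE := LC.hull_isPowerTorsion he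
  choose N hN using fun j => hE (y j)
  refine hsurj (y.support.sup N) y fun s hs => Finsupp.ext fun j => ?_
  rw [Finsupp.smul_apply, Finsupp.zero_apply]
  by_cases hj : j ∈ y.support
  · refine hN j s (Ideal.pow_le_pow_right ((Finset.le_sup hj).trans (Nat.lt_pow_self hp.one_lt).le) ?_)
    refine (Ideal.span_le.2 ?_) hs
    rintro _ ⟨i, rfl⟩
    exact Ideal.pow_mem_pow (hx ▸ Ideal.subset_span ⟨i, rfl⟩) _
  · rw [Finsupp.notMem_support_iff.1 hj, smul_zero]

end Groth.Agent.KunzLib
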